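import Mathlib

/-!
# Endomorphisms commuting with inner automorphisms of an indecomposable finite group
-/

namespace CfsgLib.KrullSchmidt

variable {A : Type*} [Group A]

/-- `A` is not the product of two proper normal subgroups meeting trivially. -/
def Indec (A : Type*) [Group A] : Prop :=
  ∀ H K : Subgroup A, H.Normal → K.Normal → H ⊓ K = ⊥ → H ⊔ K = ⊤ → H = ⊥ ∨ K = ⊥

/-- An endomorphism commuting with all inner automorphisms. -/
def IsNormalEnd (f : A →* A) : Prop := ∀ a x, f (a * x * a⁻¹) = a * f x * a⁻¹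

theorem exists_idempotent_iterate {X : Type*} [Finite X] (f : X → X) :
    ∃ n, 0 < n ∧ ∀ x, f^[n] (f^[n] x) = f^[n] x := by
  obtain ⟨i, j, hij, h⟩ : ∃ i j, i < j ∧ f^[i] = f^[j] := by
    obtain ⟨i, j, hne, h⟩ := Finite.exists_ne_map_eq_of_infinite (fun n => f^[n])
    rcases hne.lt_or_gt with hlt | hlt
    · exact ⟨i, j, hlt, h⟩
    · exact ⟨j, i, hlt, h.symm⟩
  have step : ∀ n, i ≤ n → f^[n + (j - i)] = f^[n] := by
    intro n hn
    obtain ⟨t, rfl⟩ : ∃ t, n = t + i := ⟨n - i, by omega⟩
    rw [add_assoc, Function.iterate_add, Nat.add_sub_cancel' hij.le, ← h, ← Function.iterate_add]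
  have steps : ∀ k n, i ≤ n → f^[n + k * (j - i)] = f^[n] := by
    intro k
    induction k with
    | zero => simp
    | succ k ih => intro n hn; rw [add_mul, one_mul, ← add_assoc, step _ (by omega), ih n hn]
  have hd : 1 ≤ j - i := by omega
  have hi : i + 1 ≤ (i + 1) * (j - i) := Nat.le_mul_of_pos_right _ hd
  refine ⟨(i + 1) * (j - i), by omega, fun x => ?_⟩
  rw [← Function.iterate_add_apply, steps (i + 1) _ (by omega)]

theorem iterate_conj {f : A →* A} (hf : IsNormalEnd f) (n : ℕ) (a x : A) :
    (⇑f)^[n] (a * x * a⁻¹) = a * (⇑f)^[n] x * a⁻¹ := by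
  induction n with
  | zero => rfl
  | succ n ih => rw [Function.iterate_succ_apply', ih, hf, Function.iterate_succ_apply']

/-- Fitting's lemma. -/
theorem bijective_or_nilpotent [Finite A] (hA : Indec A) {f : A →* A} (hf : IsNormalEnd f) :
    Function.Bijective f ∨ ∃ n, ∀ x, (⇑f)^[n] x = 1 := by
  obtain ⟨n, hn, hidem⟩ := exists_idempotent_iterate f
  let e : A →* A :=
    { toFun := (⇑f)^[n]
      map_one' := iterate_map_one f n
      map_mul' := iterate_map_mul f n }
  have hRn : e.range.Normal := ⟨by
    rintro _ ⟨x, rfl⟩ g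
    exact ⟨g * x * g⁻¹, iterate_conj hf n g x⟩⟩
  have hinf : e.ker ⊓ e.range = ⊥ := by
    refine (Subgroup.eq_bot_iff_forall _).2 ?_
    rintro _ ⟨hx, ⟨y, rfl⟩⟩
    have : e (e y) = e y := hidem y
    rw [← this]; exact hx
  have hsup : e.ker ⊔ e.range = ⊤ := by
    refine eq_top_iff.2 fun x _ => ?_
    have hk : x * (e x)⁻¹ ∈ e.ker := by
      have : e (e x) = e x := hidem x
      rw [MonoidHom.mem_ker, map_mul, map_inv, this, mul_inv_cancel]
    simpa using mul_mem (le_sup_left (b := e.range) hk) (le_sup_right (a := e.ker) ⟨x, rfl⟩)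
  rcases hA _ _ inferInstance hRn hinf hsup with h | h
  · left
    rw [← Finite.injective_iff_bijective, injective_iff_map_eq_one]
    intro x hx
    have : x ∈ e.ker := by
      obtain ⟨k, rfl⟩ : ∃ k, n = k + 1 := ⟨n - 1, by omega⟩
      change (⇑f)^[k + 1] x = 1
      rw [Function.iterate_succ_apply, hx, iterate_map_one]
    rwa [h, Subgroup.mem_bot] at this
  · refine Or.inr ⟨n, fun x => ?_⟩
    have : e x ∈ (⊥ : Subgroup A) := h ▸ ⟨x, rfl⟩
    exact Subgroup.mem_bot.1 this

/-- Two nilpotent normal endomorphisms cannot add up to the identity. -/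
theorem bijective_of_add_eq_id [Finite A] [Nontrivial A] (hA : Indec A) {g h : A →* A}
    (hg : IsNormalEnd g) (hh : IsNormalEnd h) (hgh : ∀ x, g x * h x = x) :
    Function.Bijective g ∨ Function.Bijective h := by
  rcases bijective_or_nilpotent hA hg with b | ⟨n, hn⟩
  · exact Or.inl b
  rcases bijective_or_nilpotent hA hh with b | ⟨m, hm⟩
  · exact Or.inr b
  exfalso
  have hh' : ∀ x, h x = (g x)⁻¹ * x := fun x => eq_inv_mul_of_mul_eq (hgh x)
  have hcomm : Function.Commute (⇑g) (⇑h) := fun x => by
    rw [hh' x, map_mul, map_inv, hh' (g x)]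
  have key : ∀ d, ∀ i j, n + m ≤ i + j + d → ∀ x, (⇑g)^[i] ((⇑h)^[j] x) = 1 := by
    intro d
    induction d with
    | zero =>
      intro i j hij x
      rcases Nat.lt_or_ge i n with hi | hi
      · obtain ⟨t, rfl⟩ : ∃ t, j = m + t := ⟨j - m, by omega⟩
        rw [Function.iterate_add_apply, hm, iterate_map_one]
      · obtain ⟨t, rfl⟩ : ∃ t, i = n + t := ⟨i - n, by omega⟩
        rw [Function.iterate_add_apply, hn]
    | succ d ih =>
      intro i j hij x
      conv_lhs => rw [← hgh x]
      rw [iterate_map_mul, iterate_map_mul, ← Function.iterate_succ_apply,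
        ← (hcomm.iterate_right j).eq x, ← Function.iterate_succ_apply,
        ih i (j + 1) (by omega), ih (i + 1) j (by omega), mul_one]
  obtain ⟨x, hx⟩ := exists_ne (1 : A)
  exact hx (key (n + m) 0 0 (by omega) x)

/-- One of two normal endomorphisms adding up to an automorphism is an automorphism. -/
theorem bijective_of_add_bijective [Finite A] [Nontrivial A] (hA : Indec A) {g h k : A →* A}
    (hg : IsNormalEnd g) (hh : IsNormalEnd h) (hk : IsNormalEnd k) (hb : Function.Bijective k)
    (hgh : ∀ x, g x * h x = k x) : Function.Bijective g ∨ Function.Bijective h := by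
  let e := MulEquiv.ofBijective k hb
  have hn : ∀ f : A →* A, IsNormalEnd f → IsNormalEnd (f.comp e.symm.toMonoidHom) := by
    intro f hf a x
    change f (e.symm (a * x * a⁻¹)) = a * f (e.symm x) * a⁻¹
    rw [← hf]
    congr 1
    apply e.injective
    rw [e.apply_symm_apply]
    change _ = k (a * e.symm x * a⁻¹)
    rw [hk, show k (e.symm x) = x from e.apply_symm_apply x]
  rcases bijective_of_add_eq_id hA (hn g hg) (hn h hh)
    (fun x => (hgh (e.symm x)).trans (e.apply_symm_apply x)) with h' | h'
  · exact Or.inl ((Function.Bijective.of_comp_iff (⇑g) e.symm.bijective).1 h')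
  · exact Or.inr ((Function.Bijective.of_comp_iff (⇑h) e.symm.bijective).1 h')

section Exchange

variable {ι : Type*} [Fintype ι] [DecidableEq ι] {B : ι → Type*} [∀ j, Group (B j)]
variable {G : Type*} [Group G]

/-- the endomorphism cutting out the coordinates in `S` -/
def cut (S : Finset ι) : ((j : ι) → B j) →* ((j : ι) → B j) where
  toFun x j := if j ∈ S then x j else 1
  map_one' := funext fun j => by simp
  map_mul' x y := funext fun j => by by_cases h : j ∈ S <;> simp [h]

omit [Fintype ι] in
theorem cut_conj (S : Finset ι) (x y : (j : ι) → B j) :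
    cut S (y * x * y⁻¹) = y * cut S x * y⁻¹ := by
  funext j
  by_cases h : j ∈ S <;> simp [cut, h]

/-- Exchange: an indecomposable direct factor is isomorphic to one of the indecomposable factors
of any other decomposition, and can replace it. -/
theorem exists_exchange [Finite A] [Nontrivial A] (hA : Indec A) [∀ j, Finite (B j)]
    (hB : ∀ j, Indec (B j)) (i : A →* ((j : ι) → B j)) (π : ((j : ι) → B j) →* A)
    (hπi : ∀ a, π (i a) = a) (hi : i.range.Normal) :
    ∃ j, Function.Bijective (fun a => i a j) ∧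
      Function.Bijective (fun b : B j => π (Pi.mulSingle j b)) := by
  classical
  let f : Finset ι → (A →* A) := fun S => π.comp ((cut S).comp i)
  have hfn : ∀ S, IsNormalEnd (f S) := by
    intro S a x
    change π (cut S (i (a * x * a⁻¹))) = a * π (cut S (i x)) * a⁻¹
    rw [map_mul i, map_mul i, map_inv i, cut_conj, map_mul, map_mul, map_inv, hπi]
  have hstep : ∀ S : Finset ι, Function.Bijective (f S) → ∃ j, Function.Bijective (f {j}) := by
    intro S
    induction S using Finset.induction with
    | empty =>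
      intro hb
      obtain ⟨a, ha⟩ := exists_ne (1 : A)
      refine absurd (hb.1 (?_ : f ∅ a = f ∅ 1)) ha
      rw [map_one]
      change π (cut ∅ (i a)) = 1
      rw [show cut ∅ (i a) = (1 : (j : ι) → B j) from funext fun j => by simp [cut], map_one]
    | insert j S hj ih =>
      intro hb
      rcases bijective_of_add_bijective hA (hfn {j}) (hfn S) (hfn (insert j S)) hb
        (fun x => by
          change π (cut {j} (i x)) * π (cut S (i x)) = π (cut (insert j S) (i x))
          rw [← map_mul]
          congr 1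
          funext k
          by_cases hk : k = j
          · subst hk; simp [cut, hj]
          · by_cases hkS : k ∈ S <;> simp [cut, hk, hkS]) with h | h
      · exact ⟨j, h⟩
      · exact ih h
  obtain ⟨j, hj⟩ := hstep Finset.univ (by
    rw [show ⇑(f Finset.univ) = id from funext fun x => by
      change π (cut Finset.univ (i x)) = x
      rw [show cut Finset.univ (i x) = i x from funext fun k => by simp [cut], hπi]]
    exact Function.bijective_id)
  refine ⟨j, ?_⟩
  let φ : A →* B j := (Pi.evalMonoidHom B j).comp i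
  let ψ : B j →* A := π.comp (MonoidHom.mulSingle B j)
  have hψφ : ∀ a, f {j} a = ψ (φ a) := by
    intro a
    change π (cut {j} (i a)) = π (Pi.mulSingle j (i a j))
    congr 1
    funext k
    by_cases hk : k = j
    · subst hk; simp [cut]
    · simp [cut, hk]
  have hcomp : Function.Bijective (⇑ψ ∘ ⇑φ) := by rwa [show ⇑ψ ∘ ⇑φ = ⇑(f {j}) from funext fun a => (hψφ a).symm]
  have hφi : Function.Injective φ := hcomp.1.of_comp
  have hφn : φ.range.Normal := by
    rw [show φ.range = i.range.map (Pi.evalMonoidHom B j) from MonoidHom.range_comp _ _]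
    exact hi.map _ (fun b => ⟨Pi.mulSingle j b, by simp⟩)
  have hinf : ψ.ker ⊓ φ.range = ⊥ := by
    refine (Subgroup.eq_bot_iff_forall _).2 ?_
    rintro _ ⟨hx, ⟨a, rfl⟩⟩
    have : a = 1 := hcomp.1 (show ψ (φ a) = ψ (φ 1) by rw [map_one, map_one]; exact hx)
    rw [this, map_one]
  have hsup : ψ.ker ⊔ φ.range = ⊤ := by
    refine eq_top_iff.2 fun b _ => ?_
    obtain ⟨a, ha⟩ := hcomp.2 (ψ b)
    have hk : b * (φ a)⁻¹ ∈ ψ.ker := by
      rw [MonoidHom.mem_ker, map_mul, map_inv, show ψ (φ a) = ψ b from ha, mul_inv_cancel]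
    simpa using mul_mem (le_sup_left (b := φ.range) hk) (le_sup_right (a := ψ.ker) ⟨a, rfl⟩)
  rcases hB j _ _ inferInstance hφn hinf hsup with h | h
  · have hψi : Function.Injective ψ := (MonoidHom.ker_eq_bot_iff ψ).1 h
    refine ⟨⟨hφi, fun b => ?_⟩, ⟨hψi, hcomp.2.of_comp⟩⟩
    obtain ⟨a, ha⟩ := hcomp.2 (ψ b)
    exact ⟨a, hψi ha⟩
  · exfalso
    obtain ⟨a, ha⟩ := exists_ne (1 : A)
    have : φ a ∈ (⊥ : Subgroup (B j)) := h ▸ ⟨a, rfl⟩
    exact ha (hφi ((Subgroup.mem_bot.1 this).trans (map_one φ).symm))

end Exchange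

end CfsgLib.KrullSchmidt
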